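import Cfsg.Agent.UThree.Orders

/-! # An embedding of `PSL(2, 7)` in `SU(3, 3)`, on codes -/

namespace CfsgLib.UThree

open Matrix

/-- a 2 by 2 matrix over the integers mod 7, by rows -/
abbrev Q7 := ℕ × ℕ × ℕ × ℕ

/-- product mod 7 -/
def qmul (g k : Q7) : Q7 :=
  ((g.1 * k.1 + g.2.1 * k.2.2.1) % 7, (g.1 * k.2.1 + g.2.1 * k.2.2.2) % 7,
    (g.2.2.1 * k.1 + g.2.2.2 * k.2.2.1) % 7, (g.2.2.1 * k.2.1 + g.2.2.2 * k.2.2.2) % 7)

/-- powers mod 7 -/
def qpow (g : Q7) : ℕ → Q7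
  | 0 => (1, 0, 0, 1)
  | k + 1 => qmul (qpow g k) g

/-- translation -/
def qT : Q7 := (1, 1, 0, 1)

/-- inversion -/
def qS : Q7 := (0, 6, 1, 0)

/-- the torus generator -/
def qD : Q7 := (3, 0, 0, 5)

/-- the elements of `SL(2, 7)` -/
def slList : List Q7 :=
  ((List.range 2401).map fun n => (n % 7, n / 7 % 7, n / 49 % 7, n / 343)).filter
    fun g => (g.1 * g.2.2.2 + 6 * (g.2.1 * g.2.2.1)) % 7 == 1

/-- logarithm to the base 3 mod 7 -/
def log3 (c : ℕ) : ℕ := if c = 3 then 1 else if c = 2 then 2 else if c = 6 then 3 else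
  if c = 4 then 4 else if c = 5 then 5 else 0

/-- a word in the generators -/
def word (g : Q7) : Q7 :=
  if g.2.2.1 = 0 then qmul (qpow qD (log3 g.1)) (qpow qT (g.2.1 * g.1 ^ 5 % 7))
  else qmul (qmul (qmul (qpow qT (g.1 * g.2.2.1 ^ 5 % 7)) qS) (qpow qD (log3 g.2.2.1)))
    (qpow qT (g.2.2.2 * g.2.2.1 ^ 5 % 7))

/-- the image of the translation -/
def mU : M9 := ⟨0, 4, 5, 0, 4, 7, 1, 0, 0⟩

/-- the image of the torus generator -/
def mH : M9 := ⟨2, 4, 3, 3, 5, 1, 5, 0, 8⟩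

/-- the image of the inversion -/
def mW : M9 := ⟨1, 8, 6, 5, 0, 8, 3, 5, 1⟩

/-- the embedding -/
def emb (g : Q7) : M9 :=
  if g.2.2.1 = 0 then mulM (powM mH (log3 g.1 % 3)) (powM mU (g.2.1 * g.1 ^ 5 % 7))
  else mulM (mulM (mulM (powM mU (g.1 * g.2.2.1 ^ 5 % 7)) mW) (powM mH (log3 g.2.2.1 % 3)))
    (powM mU (g.2.2.2 * g.2.2.1 ^ 5 % 7))

set_option maxRecDepth 100000 in
theorem slList_checks : slList.all (fun g => word g == g && colsOK (emb g) &&
    ((emb g == oneM) == (g.2.1 == 0 && g.2.2.1 == 0 && g.1 == g.2.2.2))) = true := by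
  decide +kernel

set_option maxRecDepth 100000 in
theorem slList_hom : [qT, qS, qD].all (fun s => slList.all fun g =>
    emb (qmul s g) == mulM (emb s) (emb g)) = true := by
  decide +kernel

/-- The code of an element of `SL(2, 7)`. -/
def qOf (g : SpecialLinearGroup (Fin 2) (ZMod 7)) : Q7 :=
  ((g.1 0 0).val, (g.1 0 1).val, (g.1 1 0).val, (g.1 1 1).val)

theorem qOf_mul (g k : SpecialLinearGroup (Fin 2) (ZMod 7)) :
    qOf (g * k) = qmul (qOf g) (qOf k) := by
  simp [qOf, qmul, Matrix.mul_apply, Fin.sum_univ_two, ZMod.val_add, ZMod.val_mul, Nat.add_mod]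

theorem qOf_injective : Function.Injective qOf := fun g k h => by
  simp only [qOf, Prod.mk.injEq] at h
  obtain ⟨h1, h2, h3, h4⟩ := h
  ext i j
  fin_cases i <;> fin_cases j
  · exact ZMod.val_injective 7 h1
  · exact ZMod.val_injective 7 h2
  · exact ZMod.val_injective 7 h3
  · exact ZMod.val_injective 7 h4

theorem qOf_one : qOf 1 = (1, 0, 0, 1) := by decide

theorem qOf_pow (g : SpecialLinearGroup (Fin 2) (ZMod 7)) :
    ∀ k, qOf (g ^ k) = qpow (qOf g) k
  | 0 => by rw [pow_zero, qOf_one]; rfl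
  | k + 1 => by rw [pow_succ, qOf_mul, qOf_pow g k]; rfl

theorem qOf_mem (g : SpecialLinearGroup (Fin 2) (ZMod 7)) : qOf g ∈ slList := by
  rw [slList, List.mem_filter, List.mem_map]
  refine ⟨⟨(g.1 0 0).val + 7 * (g.1 0 1).val + 49 * (g.1 1 0).val + 343 * (g.1 1 1).val, ?_, ?_⟩, ?_⟩
  · have := (g.1 0 0).val_lt; have := (g.1 0 1).val_lt
    have := (g.1 1 0).val_lt; have := (g.1 1 1).val_lt
    rw [List.mem_range]; omega
  · have := (g.1 0 0).val_lt; have := (g.1 0 1).val_lt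
    have := (g.1 1 0).val_lt; have := (g.1 1 1).val_lt
    simp only [qOf, Prod.mk.injEq]; omega
  · have hdet := g.2
    rw [Matrix.det_fin_two] at hdet
    have key : ∀ a b c d : ZMod 7, a * d - b * c = 1 →
        (a.val * d.val + 6 * (b.val * c.val)) % 7 = 1 := by
      intro a b c d h
      have h6 : ((6 : ℕ) : ZMod 7) = -1 := by decide
      have : ((a.val * d.val + 6 * (b.val * c.val) : ℕ) : ZMod 7) = ((1 : ℕ) : ZMod 7) := by
        push_cast [ZMod.natCast_zmod_val]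
        rw [show ((6 : ZMod 7)) = -1 by decide]
        linear_combination h
      exact (ZMod.natCast_eq_natCast_iff' _ _ 7).mp this
    simpa [qOf] using key _ _ _ _ hdet

/-- the translation -/
def slT : SpecialLinearGroup (Fin 2) (ZMod 7) := ⟨!![1, 1; 0, 1], by decide⟩

/-- the inversion -/
def slS : SpecialLinearGroup (Fin 2) (ZMod 7) := ⟨!![0, 6; 1, 0], by decide⟩

/-- the torus generator -/
def slD : SpecialLinearGroup (Fin 2) (ZMod 7) := ⟨!![3, 0; 0, 5], by decide⟩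

theorem qOf_gens : qOf slT = qT ∧ qOf slS = qS ∧ qOf slD = qD := by decide

theorem mem_gens (M : Submonoid (SpecialLinearGroup (Fin 2) (ZMod 7))) (hT : slT ∈ M)
    (hS : slS ∈ M) (hD : slD ∈ M) (g : SpecialLinearGroup (Fin 2) (ZMod 7)) : g ∈ M := by
  have h := List.all_eq_true.1 slList_checks _ (qOf_mem g)
  simp only [Bool.and_eq_true, beq_iff_eq] at h
  obtain ⟨⟨hw, -⟩, -⟩ := h
  obtain ⟨eT, eS, eD⟩ := qOf_gens
  rw [word] at hw
  split at hw
  · rw [← eT, ← eD, ← qOf_pow, ← qOf_pow, ← qOf_mul] at hw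
    rw [← qOf_injective hw]
    exact mul_mem (pow_mem hD _) (pow_mem hT _)
  · rw [← eT, ← eS, ← eD, ← qOf_pow, ← qOf_pow, ← qOf_pow, ← qOf_mul, ← qOf_mul, ← qOf_mul] at hw
    rw [← qOf_injective hw]
    exact mul_mem (mul_mem (mul_mem (pow_mem hT _) hS) (pow_mem hD _)) (pow_mem hT _)

variable {F : Type*} [Field F] [CharP F 3] {ι : F} (hι : ι ^ 2 = -1)
include hι

theorem mem_SU_of_colsOK {A : M9} (hc : colsOK A = true) :
    ∃ g : Cfsg.SU 3 F 3, (g : SpecialLinearGroup (Fin 3) F).1 = toMat ι A := by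
  haveI : ExpChar F 3 := ExpChar.prime (by norm_num)
  simp only [colsOK, Bool.and_eq_true, decide_eq_true_eq, beq_iff_eq, and_assoc] at hc
  obtain ⟨-, -, -, -, -, -, -, -, -, n1, n2, o1, o2, o3, o4, o5, o6, n3, hdet⟩ := hc
  have hv : ∀ u v r, herm u v = r → val9 ι (herm u v) = val9 ι r := fun u v r h => by rw [h]
  have hdet' : (toMat ι A).det = 1 := by
    have := congrArg (val9 ι) hdet
    simp [val9_addF, val9_mulF hι, val9_negF hι, val9_one] at this
    rw [Matrix.det_fin_three]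
    simp [toMat]
    linear_combination this
  refine ⟨⟨⟨toMat ι A, hdet'⟩, fun u v => ?_⟩, rfl⟩
  have q1 := (val9_herm hι _ _).symm.trans (hv _ _ _ n1)
  have q2 := (val9_herm hι _ _).symm.trans (hv _ _ _ n2)
  have q3 := (val9_herm hι _ _).symm.trans (hv _ _ _ n3)
  have p1 := (val9_herm hι _ _).symm.trans (hv _ _ _ o1)
  have p2 := (val9_herm hι _ _).symm.trans (hv _ _ _ o2)
  have p3 := (val9_herm hι _ _).symm.trans (hv _ _ _ o3)
  have p4 := (val9_herm hι _ _).symm.trans (hv _ _ _ o4)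
  have p5 := (val9_herm hι _ _).symm.trans (hv _ _ _ o5)
  have p6 := (val9_herm hι _ _).symm.trans (hv _ _ _ o6)
  simp only [val9_one, val9_zero] at q1 q2 q3 p1 p2 p3 p4 p5 p6
  show Cfsg.hermForm 3 F 3 (toMat ι A *ᵥ u) (toMat ι A *ᵥ v) = Cfsg.hermForm 3 F 3 u v
  simp only [Cfsg.hermForm, Fin.sum_univ_three, Matrix.mulVec, dotProduct, toMat, add_pow_expChar,
    mul_pow]
  simp
  linear_combination (u 0 * v 0 ^ 3) * q1 + (u 1 * v 1 ^ 3) * q2 + (u 2 * v 2 ^ 3) * q3 +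
    (u 0 * v 1 ^ 3) * p1 + (u 1 * v 0 ^ 3) * p2 + (u 0 * v 2 ^ 3) * p3 + (u 2 * v 0 ^ 3) * p4 +
    (u 1 * v 2 ^ 3) * p5 + (u 2 * v 1 ^ 3) * p6

/-- `SL(2, 7)` maps to `SU(3, 3)` with kernel `±1`. -/
theorem exists_hom_SL_two_seven : ∃ φ : SpecialLinearGroup (Fin 2) (ZMod 7) →* Cfsg.SU 3 F 3,
    φ.ker = Subgroup.center _ := by
  have hall := fun g => List.all_eq_true.1 slList_checks _ (qOf_mem g)
  have hcols : ∀ g, colsOK (emb (qOf g)) = true := fun g => by
    have h := hall g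
    simp only [Bool.and_eq_true] at h
    exact h.1.2
  choose φ hφ using fun g => mem_SU_of_colsOK hι (hcols g)
  have hker : ∀ g, φ g = 1 ↔ (g.1 0 1 = 0 ∧ g.1 1 0 = 0 ∧ g.1 0 0 = g.1 1 1) := by
    intro g
    have h := hall g
    simp only [Bool.and_eq_true, beq_iff_eq] at h
    have h2 := h.2
    rw [Bool.eq_iff_iff] at h2
    simp only [Bool.and_eq_true, beq_iff_eq, qOf, and_assoc] at h2
    have e : φ g = 1 ↔ emb (qOf g) = oneM := by
      constructor
      · intro he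
        refine toMat_injective hι (hcols g) (by decide) ?_
        rw [← hφ g, he, toMat_one]; rfl
      · intro he
        refine Subtype.ext (Subtype.ext ?_)
        rw [hφ g, he, toMat_one]; rfl
    rw [e, show qOf g = ((g.1 0 0).val, (g.1 0 1).val, (g.1 1 0).val, (g.1 1 1).val) from rfl, h2, ZMod.val_eq_zero, ZMod.val_eq_zero, (ZMod.val_injective 7).eq_iff]
  have hsl : ∀ s ∈ [qT, qS, qD], ∀ g,
      toMat ι (emb (qmul s (qOf g))) = toMat ι (emb s) * toMat ι (emb (qOf g)) := by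
    intro s hs g
    have h := List.all_eq_true.1 (List.all_eq_true.1 slList_hom s hs) _ (qOf_mem g)
    rw [beq_iff_eq] at h
    rw [h, toMat_mul hι]
  let M : Submonoid (SpecialLinearGroup (Fin 2) (ZMod 7)) :=
    { carrier := {a | ∀ g, φ (a * g) = φ a * φ g}
      one_mem' := fun g => by rw [(hker 1).mpr (by simp), one_mul, one_mul]
      mul_mem' := fun {a b} ha hb g => by rw [mul_assoc, ha, hb, ← mul_assoc, ← ha] }
  have hgen : ∀ a, qOf a ∈ [qT, qS, qD] → a ∈ M := fun a ha g => Subtype.ext (Subtype.ext (by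
    rw [hφ, Subgroup.coe_mul, Matrix.SpecialLinearGroup.coe_mul, hφ, hφ, qOf_mul, hsl _ ha]))
  have hmul : ∀ a g, φ (a * g) = φ a * φ g := mem_gens M (hgen _ (by rw [qOf_gens.1]; simp))
    (hgen _ (by rw [qOf_gens.2.1]; simp)) (hgen _ (by rw [qOf_gens.2.2]; simp))
  refine ⟨MonoidHom.mk' φ hmul, ?_⟩
  ext g
  rw [MonoidHom.mem_ker, MonoidHom.mk'_apply, hker, Matrix.SpecialLinearGroup.mem_center_iff]
  constructor
  · rintro ⟨h1, h2, h3⟩
    have hd := g.2
    rw [Matrix.det_fin_two, h1, h3] at hd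
    refine ⟨g.1 1 1, by simpa [sq] using hd, ?_⟩
    ext i j
    fin_cases i <;> fin_cases j <;> simp [h1, h2, h3]
  · rintro ⟨r, -, hr⟩
    simp [← hr]

end CfsgLib.UThree
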