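import Cfsg.Agent.UThree.SolvWitness
import Cfsg.Agent.Characters.Integrality

/-! # The degree graph of `PSU(3, 3)` is a triangle -/

set_option autoImplicit false
set_option linter.style.haveILetI false

namespace CfsgLib.UThree.Triangle

open CfsgLib.UThree.Mono

theorem dvd_card_of_mem {G : Type*} [Group G] [Fintype G] {d : ℕ} (h : d ∈ Cfsg.charDegrees G) :
    d ∣ Nat.card G := by
  obtain ⟨χ, hχ, hd, -⟩ := CfsgLib.DegreeGraph.exists_of_mem h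
  obtain ⟨n, ρ, hρ, rfl⟩ := hχ
  rw [Representation.char_one, Nat.cast_inj] at hd
  exact hd ▸ CfsgLib.Characters.finrank_dvd_card ρ

theorem prime_dvd_6048 {p : ℕ} (hp : p.Prime) (h : p ∣ 6048) : p = 2 ∨ p = 3 ∨ p = 7 := by
  have h' : p ∣ 2 ^ 5 * (3 ^ 3 * 7) := h
  rcases hp.dvd_mul.1 h' with h1 | h1
  · exact .inl ((Nat.prime_dvd_prime_iff_eq hp Nat.prime_two).1 (hp.dvd_of_dvd_pow h1))
  rcases hp.dvd_mul.1 h1 with h2 | h2
  · exact .inr (.inl ((Nat.prime_dvd_prime_iff_eq hp Nat.prime_three).1 (hp.dvd_of_dvd_pow h2)))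
  · exact .inr (.inr ((Nat.prime_dvd_prime_iff_eq hp (by norm_num)).1 h2))

/-- Complete graph on `2`, `3`, `7`. -/
theorem degree_data {G : Type*} [Group G] [Fintype G] (hG : Nat.card G = 6048)
    (h6 : ∃ d ∈ Cfsg.charDegrees G, 6 ∣ d) (h14 : ∃ d ∈ Cfsg.charDegrees G, 14 ∣ d)
    (h21 : ∃ d ∈ Cfsg.charDegrees G, 21 ∣ d) :
    Cfsg.degreePrimes G = {2, 3, 7} ∧ ∀ p q, (Cfsg.degreeGraph G).Adj p q ↔
      p ≠ q ∧ p ∈ ({2, 3, 7} : Set ℕ) ∧ q ∈ ({2, 3, 7} : Set ℕ) := by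
  have hall : ∀ p q : ℕ, p ∈ ({2, 3, 7} : Set ℕ) → q ∈ ({2, 3, 7} : Set ℕ) → p ≠ q →
      p.Prime ∧ q.Prime ∧ ∃ d ∈ Cfsg.charDegrees G, p * q ∣ d := by
    intro p q hp hq hne
    simp only [Set.mem_insert_iff, Set.mem_singleton_iff] at hp hq
    rcases hp with rfl | rfl | rfl <;> rcases hq with rfl | rfl | rfl <;>
      first
        | exact absurd rfl hne
        | exact ⟨by norm_num, by norm_num, h6⟩
        | exact ⟨by norm_num, by norm_num, h14⟩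
        | exact ⟨by norm_num, by norm_num, h21⟩
  have hmem : ∀ p : ℕ, p.Prime → (∃ d ∈ Cfsg.charDegrees G, p ∣ d) →
      p ∈ ({2, 3, 7} : Set ℕ) := by
    rintro p hp ⟨d, hd, hpd⟩
    simpa using prime_dvd_6048 hp (hG ▸ hpd.trans (dvd_card_of_mem hd))
  constructor
  · ext p
    refine ⟨fun h => hmem p h.1 h.2, fun h => ?_⟩
    obtain ⟨q, hq, hne⟩ : ∃ q ∈ ({2, 3, 7} : Set ℕ), p ≠ q := by
      by_cases h2 : p = 2
      · exact ⟨3, by simp, by omega⟩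
      · exact ⟨2, by simp, h2⟩
    obtain ⟨hp, -, d, hd, hdvd⟩ := hall p q h hq hne
    exact ⟨hp, d, hd, dvd_of_mul_right_dvd hdvd⟩
  · intro p q
    refine ⟨fun ⟨hne, hp, hq, d, hd, h⟩ => ⟨hne, hmem p hp ⟨d, hd, dvd_of_mul_right_dvd h⟩,
      hmem q hq ⟨d, hd, dvd_of_mul_left_dvd h⟩⟩, fun ⟨hne, hp, hq⟩ => ⟨hne, hall p q hp hq hne⟩⟩

variable {F : Type*} [Field F] [CharP F 3] [Fintype F] {ι : F} (hι : ι ^ 2 = -1)
  (hF : Fintype.card F = 9)
include hι hF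

theorem graphs_eq :
    Cfsg.degreePrimes SolvWitness.W = Cfsg.degreePrimes (Cfsg.PSU 3 F 3) ∧
      Cfsg.degreeGraph SolvWitness.W = Cfsg.degreeGraph (Cfsg.PSU 3 F 3) := by
  classical
  have hc : Subgroup.center (Cfsg.SU 3 F 3) = ⊥ := by
    apply Subgroup.eq_bot_of_card_eq
    rw [CfsgLib.Forms4.card_center_SU (by rw [hF]; norm_num) (by norm_num)]
    norm_num
  haveI := Fintype.ofFinite (Cfsg.SU 3 F 3)
  haveI := Fintype.ofFinite (Cfsg.PSU 3 F 3)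
  let f : Cfsg.SU 3 F 3 →* Cfsg.PSU 3 F 3 := QuotientGroup.mk' _
  have hbij : Function.Bijective f :=
    ⟨(MonoidHom.ker_eq_bot_iff f).1 ((QuotientGroup.ker_mk' _).trans hc),
      QuotientGroup.mk'_surjective _⟩
  let e := MulEquiv.ofBijective f hbij
  have hcard : Nat.card (Cfsg.PSU 3 F 3) = 6048 := by
    rw [← Nat.card_congr e.toEquiv, card_SU33 hF]
  have hdeg : ∀ {d}, d ∈ Cfsg.charDegrees (Cfsg.SU 3 F 3) →
      d ∈ Cfsg.charDegrees (Cfsg.PSU 3 F 3) := by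
    intro d h
    obtain ⟨χ, hχ, hd, -⟩ := CfsgLib.DegreeGraph.exists_of_mem h
    refine CfsgLib.DegreeGraph.mem_charDegrees
      (CfsgLib.TwoClasses.isIrr_comp_equiv e.symm hχ) ?_
    rw [map_one]; exact hd
  obtain ⟨h1, h2⟩ := degree_data hcard
    ⟨_, hdeg (deg_mem hι hF _ tab6_good), dvd_refl 6⟩
    ⟨_, hdeg (deg_mem hι hF _ tab14_good), dvd_refl 14⟩
    ⟨_, hdeg (deg_mem hι hF _ tab21_good), dvd_refl 21⟩
  obtain ⟨h3, h4⟩ := degree_data SolvWitness.card_W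
    ⟨42, SolvWitness.forty_two, by norm_num⟩ ⟨42, SolvWitness.forty_two, by norm_num⟩
    ⟨42, SolvWitness.forty_two, by norm_num⟩
  exact ⟨h3.trans h1.symm, SimpleGraph.ext (funext₂ fun p q => propext ((h4 p q).trans (h2 p q).symm))⟩

end CfsgLib.UThree.Triangle
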