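import Mathlib

/-! # Arithmetic of a field with nine elements on codes `a + 3 b` for `a + b ι`, `ι ^ 2 = -1` -/

namespace CfsgLib.UThree

/-- sum of codes -/
def addF (a b : ℕ) : ℕ := (a % 3 + b % 3) % 3 + 3 * ((a / 3 + b / 3) % 3)

/-- product of codes -/
def mulF (a b : ℕ) : ℕ :=
  ((a % 3) * (b % 3) + 2 * (a / 3) * (b / 3)) % 3 +
    3 * (((a % 3) * (b / 3) + (a / 3) * (b % 3)) % 3)

/-- conjugate of a code -/
def conjF (a : ℕ) : ℕ := a % 3 + 3 * ((2 * (a / 3)) % 3)

/-- negative of a code -/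
def negF (a : ℕ) : ℕ := mulF 2 a

theorem addF_lt (a b : ℕ) : addF a b < 9 := by unfold addF; omega

theorem mulF_lt (a b : ℕ) : mulF a b < 9 := by
  have h1 : ((a % 3) * (b % 3) + 2 * (a / 3) * (b / 3)) % 3 < 3 := Nat.mod_lt _ (by norm_num)
  have h2 : ((a % 3) * (b / 3) + (a / 3) * (b % 3)) % 3 < 3 := Nat.mod_lt _ (by norm_num)
  unfold mulF; omega

theorem conjF_lt (a : ℕ) : conjF a < 9 := by unfold conjF; omega

variable {F : Type*} [Field F] (ι : F)

/-- the value of a code -/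
def val9 (a : ℕ) : F := ((a % 3 : ℕ) : F) + ((a / 3 : ℕ) : F) * ι

theorem val9_zero : val9 ι 0 = 0 := by simp [val9]

theorem val9_one : val9 ι 1 = 1 := by simp [val9]

variable [CharP F 3]

theorem cast_mod_three (n : ℕ) : ((n % 3 : ℕ) : F) = (n : F) :=
  (CharP.natCast_eq_natCast F 3).2 (Nat.mod_modEq n 3)

theorem val9_split (x y : ℕ) :
    val9 ι (x % 3 + 3 * (y % 3)) = (x : F) + (y : F) * ι := by
  rw [val9, show (x % 3 + 3 * (y % 3)) % 3 = x % 3 by omega,
    show (x % 3 + 3 * (y % 3)) / 3 = y % 3 by omega, cast_mod_three, cast_mod_three]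

theorem val9_addF (a b : ℕ) : val9 ι (addF a b) = val9 ι a + val9 ι b := by
  rw [addF, val9_split]; simp only [val9]; push_cast; ring

theorem three_eq_zero : (3 : F) = 0 := by
  have h := CharP.cast_eq_zero F 3
  exact_mod_cast h

variable {ι} (hι : ι ^ 2 = -1)
include hι

theorem val9_mulF (a b : ℕ) : val9 ι (mulF a b) = val9 ι a * val9 ι b := by
  rw [mulF, val9_split]; simp only [val9]; push_cast
  linear_combination (-((a / 3 : ℕ) : F) * ((b / 3 : ℕ) : F)) * hι +
    (((a / 3 : ℕ) : F) * ((b / 3 : ℕ) : F)) * (three_eq_zero (F := F))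

theorem val9_negF (a : ℕ) : val9 ι (negF a) = -val9 ι a := by
  rw [negF, val9_mulF hι]
  have : val9 ι 2 = -1 := by
    simp [val9]
    linear_combination (three_eq_zero (F := F))
  rw [this]; ring

theorem val9_conjF (a : ℕ) : val9 ι (conjF a) = val9 ι a ^ 3 := by
  haveI : ExpChar F 3 := ExpChar.prime (by norm_num)
  rw [conjF]
  have h3 : ∀ n : ℕ, (n : F) ^ 3 = n := fun n => by
    haveI : Fact (Nat.Prime 3) := ⟨by norm_num⟩
    rw [← map_natCast (ZMod.castHom (dvd_refl 3) F) n, ← map_pow, ZMod.pow_card]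
  rw [show a % 3 = a % 3 % 3 by omega, val9_split]
  simp only [val9]
  rw [add_pow_expChar, mul_pow, h3, h3, show ι ^ 3 = -ι by linear_combination ι * hι,
    cast_mod_three]
  push_cast
  linear_combination (((a / 3 : ℕ) : F) * ι) * (three_eq_zero (F := F))

omit [CharP F 3] hι in
theorem exists_iota [Fintype F] (hF : Fintype.card F = 9) : ∃ ι : F, ι ^ 2 = -1 := by
  obtain ⟨r, hr⟩ := (FiniteField.isSquare_neg_one_iff (F := F)).2 (by rw [hF]; norm_num)
  exact ⟨r, by rw [pow_two, ← hr]⟩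

theorem val9_injOn {a b : ℕ} (ha : a < 9) (hb : b < 9) (h : val9 ι a = val9 ι b) : a = b := by
  -- the difference code vanishes
  haveI : Fact (Nat.Prime 3) := ⟨by norm_num⟩
  have hd : val9 ι (addF a (negF b)) = 0 := by rw [val9_addF, val9_negF hι, h, add_neg_cancel]
  have key : ∀ c, c < 9 → val9 ι c = 0 → c = 0 := by
    intro c hc h0
    simp only [val9] at h0
    by_cases hy : c / 3 = 0
    · rw [hy, Nat.cast_zero, zero_mul, add_zero, CharP.cast_eq_zero_iff F 3] at h0
      omega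
    · exfalso
      have hy0 : ((c / 3 : ℕ) : F) ≠ 0 := by
        rw [Ne, CharP.cast_eq_zero_iff F 3]; omega
      have h1 : ((c % 3 : ℕ) : F) ^ 2 + ((c / 3 : ℕ) : F) ^ 2 = 0 := by
        linear_combination (((c % 3 : ℕ) : F) - ((c / 3 : ℕ) : F) * ι) * h0 +
          ((c / 3 : ℕ) : F) ^ 2 * hι
      rw [← Nat.cast_pow, ← Nat.cast_pow, ← Nat.cast_add, CharP.cast_eq_zero_iff F 3] at h1
      have hb : ∀ x < 3, ∀ y < 3, 3 ∣ x ^ 2 + y ^ 2 → y = 0 := by decide
      exact hy (hb _ (by omega) _ (by omega) h1)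
  have := key _ (addF_lt _ _) hd
  revert this
  revert ha hb
  clear h hd
  have : ∀ a < 9, ∀ b < 9, addF a (negF b) = 0 → a = b := by decide
  exact fun ha hb h => this a ha b hb h

theorem val9_surjective [Fintype F] (hF : Fintype.card F = 9) (x : F) :
    ∃ a < 9, val9 ι a = x := by
  have hb : Function.Bijective (fun a : Fin 9 => val9 ι (a : ℕ)) := by
    rw [Fintype.bijective_iff_injective_and_card]
    exact ⟨fun a b h => Fin.ext (val9_injOn hι a.2 b.2 h), by rw [Fintype.card_fin, hF]⟩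
  obtain ⟨a, ha⟩ := hb.2 x
  exact ⟨a, a.2, ha⟩

end CfsgLib.UThree
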