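import Cfsg.Agent.UThree.MonoModel
import Cfsg.Agent.OddOrderChar.AbelianInertia
import Cfsg.Agent.TwoClasses.Tools

/-! # A solvable group of order 6048 with an irreducible character of degree 42 -/

set_option autoImplicit false
set_option linter.style.haveILetI false

namespace CfsgLib.UThree.SolvWitness

open CfsgLib.OddOrderChar CfsgLib.UThree.Mono

/-- the abelian normal subgroup, additively -/
abbrev A := (ZMod 2 × ZMod 2 × ZMod 2) × ZMod 2 × (ZMod 3 × ZMod 3)

/-- an automorphism of order 42, as a function -/
def step : A → A := fun ((a, b, c), d, (x, y)) => ((c, a + c, b), d, (-x - y, -y))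

set_option maxRecDepth 100000 in
theorem step_iterate : ∀ a : A, step^[42] a = a := by decide +kernel

set_option maxRecDepth 100000 in
theorem step_add : ∀ a b : A, step (a + b) = step a + step b := by decide +kernel

/-- the automorphism of order 42 -/
def psi : MulAut (Multiplicative A) where
  toFun a := .ofAdd (step a.toAdd)
  invFun a := .ofAdd (step^[41] a.toAdd)
  left_inv a := by
    show Multiplicative.ofAdd (step^[41] (step a.toAdd)) = a
    rw [← Function.iterate_succ_apply, step_iterate]; rfl
  right_inv a := by
    show Multiplicative.ofAdd (step (step^[41] a.toAdd)) = a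
    rw [← Function.iterate_succ_apply' step, step_iterate]; rfl
  map_mul' a b := by
    show Multiplicative.ofAdd (step (a.toAdd + b.toAdd)) = _
    rw [step_add]; rfl

theorem psi_pow (n : ℕ) (a : Multiplicative A) :
    (psi ^ n) a = .ofAdd (step^[n] a.toAdd) := by
  induction n with
  | zero => rfl
  | succ n ih =>
    rw [pow_succ', MulAut.mul_apply, ih, Function.iterate_succ_apply']; rfl

theorem psi_pow_card : psi ^ 42 = 1 :=
  MulEquiv.ext fun a => by rw [psi_pow, step_iterate]; rfl

/-- the action -/
def phi : Multiplicative (ZMod 42) →* MulAut (Multiplicative A) where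
  toFun i := psi ^ i.toAdd.val
  map_one' := by simp
  map_mul' i j := by
    rw [← pow_add, toAdd_mul, ZMod.val_add, ← pow_eq_pow_mod _ psi_pow_card]

/-- the solvable group -/
abbrev W := Multiplicative A ⋊[phi] Multiplicative (ZMod 42)

theorem card_W : Nat.card W = 6048 := by
  rw [SemidirectProduct.card, Nat.card_eq_fintype_card, Nat.card_eq_fintype_card]
  simp [Fintype.card_prod]

theorem card_A : Nat.card (Multiplicative A) = 144 := by
  simp [Fintype.card_prod]

theorem isSolvable_W : Group.IsSolvable W :=
  Group.isSolvable_of_ker_le_range (SemidirectProduct.inl (φ := phi))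
    (SemidirectProduct.rightHom (φ := phi))
    SemidirectProduct.range_inl_eq_ker_rightHom.ge

noncomputable instance : Fintype W := Fintype.ofEquiv _ SemidirectProduct.equivProd.symm

/-- exponent of the linear character -/
def expo (a : A) : ℕ := 3 * a.1.1.val + 2 * a.2.2.1.val

set_option maxRecDepth 100000 in
theorem expo_add : ∀ a b : A, expo (a + b) % 6 = (expo a + expo b) % 6 := by decide +kernel

set_option maxRecDepth 100000 in
theorem expo_moved : ∀ i : Fin 42, i ≠ 0 → ∃ a : A, expo (step^[i] a) % 6 ≠ expo a % 6 := by
  decide +kernel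

theorem six : (-om : ℂ) ^ 6 = 1 := by
  rw [← ev_zt]; simp [zt, ev]

/-- the linear character -/
noncomputable def lin : Multiplicative A →* ℂ where
  toFun a := (-om) ^ expo a.toAdd
  map_one' := by simp [expo]
  map_mul' a b := by
    rw [← pow_add, toAdd_mul, pow_eq_pow_mod _ six, expo_add, ← pow_eq_pow_mod _ six]

theorem forty_two : (42 : ℕ) ∈ Cfsg.charDegrees W := by
  classical
  haveI hnorm : (SemidirectProduct.inl (φ := phi)).range.Normal := by
    rw [SemidirectProduct.range_inl_eq_ker_rightHom]; infer_instance
  set N := (SemidirectProduct.inl (φ := phi)).range with hN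
  haveI := Fintype.ofFinite N
  let e : Multiplicative A ≃* N := MonoidHom.ofInjective SemidirectProduct.inl_injective
  let f : N →* ℂˣ := (lin.comp e.symm.toMonoidHom).toHomUnits
  have hθ := CfsgLib.TwoClasses.isIrr_linear f
  set θ : N → ℂ := fun n => (f n : ℂ) with hθdef
  have hval : ∀ a : Multiplicative A, θ (e a) = lin a := fun a => by
    show lin (e.symm (e a)) = _
    rw [MulEquiv.symm_apply_apply]
  have hT : ∀ g : W, g ∈ N ↔ conjBy N θ g = θ := by
    intro g
    constructor
    · rintro ⟨c, rfl⟩
      funext h
      obtain ⟨a, rfl⟩ := e.surjective h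
      rw [conjBy_apply]
      congr 1
      apply Subtype.ext
      show SemidirectProduct.inl c * SemidirectProduct.inl a * (SemidirectProduct.inl c)⁻¹ =
        SemidirectProduct.inl a
      rw [← map_inv, ← map_mul, ← map_mul, mul_comm c a, mul_inv_cancel_right]
    · intro hg
      by_contra hgN
      have hr : g.right.toAdd ≠ 0 := by
        intro h0
        refine hgN ⟨g.left, ?_⟩
        ext1
        · rfl
        · exact (toAdd_eq_zero.1 h0).symm
      obtain ⟨a, ha⟩ := expo_moved ⟨g.right.toAdd.val, ZMod.val_lt _⟩
        (fun h => hr ((ZMod.val_eq_zero _).1 (congrArg Fin.val h)))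
      have h1 := congrFun hg (e (.ofAdd a))
      rw [conjBy_apply] at h1
      have h2 : (⟨g * (e (.ofAdd a) : W) * g⁻¹, hnorm.conj_mem _ (e (.ofAdd a)).2 g⟩ : N) =
          e (phi g.right (.ofAdd a)) := by
        apply Subtype.ext
        show g * SemidirectProduct.inl _ * g⁻¹ = SemidirectProduct.inl _
        ext1
        · simp only [SemidirectProduct.mul_left, SemidirectProduct.mul_right,
            SemidirectProduct.inv_left, SemidirectProduct.left_inl, SemidirectProduct.right_inl,
            mul_one, map_inv, ← MulAut.mul_apply, mul_inv_cancel,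
            MulAut.one_apply]
          rw [mul_comm g.left, mul_inv_cancel_right]
        · simp
      rw [h2, hval, hval] at h1
      exact ha (om_pow_inj (by
        simpa [lin, phi, psi_pow] using h1))
  obtain ⟨k, C, hk, hC, hcount, -, hdeg, -⟩ := induced_abelian_inertia N hθ N hT
    (fun x hx y hy => mul_mem (mul_mem (mul_mem hx hy) (inv_mem hx)) (inv_mem hy))
  have hidx : N.index = 42 := by
    have h := N.card_mul_index
    rw [card_W, ← Nat.card_congr e.toEquiv, card_A] at h
    omega
  rw [Subgroup.relIndex_self] at hcount
  obtain ⟨χ, hχ⟩ := (Finset.card_pos (s := C)).1 (by rw [(mul_eq_one.1 hcount).2]; norm_num)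
  have hk1 : k = 1 := (Nat.pow_eq_one.1 (mul_eq_one.1 hcount).1).resolve_right (by norm_num)
  refine CfsgLib.DegreeGraph.mem_charDegrees (hC χ hχ) ?_
  rw [hdeg χ hχ, hidx, hk1]
  simp [hθdef]

end CfsgLib.UThree.SolvWitness
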